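import Mathlib
import Cfsg.Agent.Lib.Helper56.TC
import Cfsg.Agent.Lib.Helper56.Suz22880.C0
import Cfsg.Agent.Lib.Helper56.Suz22880.C1
import Cfsg.Agent.Lib.Helper56.Suz22880.C2
import Cfsg.Agent.Lib.Helper56.Suz22880.C3
import Cfsg.Agent.Lib.Helper56.Suz22880.C4
import Cfsg.Agent.Lib.Helper56.Suz22880.C5
import Cfsg.Agent.Lib.Helper56.Suz22880.C6
set_option autoImplicit false
set_option maxRecDepth 1000000

namespace Cfsg.Agent.Lib.Helper56.Suz22880

open Cfsg.Agent.Lib.Helper56.TC Cfsg.Agent.Lib.Helper56.TC.Tabs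

theorem uN_722 : Upto T.chkName 722 := upto_add (upto_zero T.chkName) rfl cN_0
theorem uN_1458 : Upto T.chkName 1458 := upto_add uN_722 rfl cN_722
theorem uN_2178 : Upto T.chkName 2178 := upto_add uN_1458 rfl cN_1458
theorem uN_2899 : Upto T.chkName 2899 := upto_add uN_2178 rfl cN_2178
theorem uN_3622 : Upto T.chkName 3622 := upto_add uN_2899 rfl cN_2899
theorem uN_4340 : Upto T.chkName 4340 := upto_add uN_3622 rfl cN_3622
theorem uN_5049 : Upto T.chkName 5049 := upto_add uN_4340 rfl cN_4340
theorem uN_5757 : Upto T.chkName 5757 := upto_add uN_5049 rfl cN_5049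
theorem uN_6459 : Upto T.chkName 6459 := upto_add uN_5757 rfl cN_5757
theorem uN_7144 : Upto T.chkName 7144 := upto_add uN_6459 rfl cN_6459
theorem uN_7832 : Upto T.chkName 7832 := upto_add uN_7144 rfl cN_7144
theorem uN_8500 : Upto T.chkName 8500 := upto_add uN_7832 rfl cN_7832
theorem uN_9174 : Upto T.chkName 9174 := upto_add uN_8500 rfl cN_8500
theorem uN_9845 : Upto T.chkName 9845 := upto_add uN_9174 rfl cN_9174
theorem uN_10527 : Upto T.chkName 10527 := upto_add uN_9845 rfl cN_9845
theorem uN_11207 : Upto T.chkName 11207 := upto_add uN_10527 rfl cN_10527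
theorem uN_11899 : Upto T.chkName 11899 := upto_add uN_11207 rfl cN_11207
theorem uN_12565 : Upto T.chkName 12565 := upto_add uN_11899 rfl cN_11899
theorem uN_13255 : Upto T.chkName 13255 := upto_add uN_12565 rfl cN_12565
theorem uN_13917 : Upto T.chkName 13917 := upto_add uN_13255 rfl cN_13255
theorem uN_14594 : Upto T.chkName 14594 := upto_add uN_13917 rfl cN_13917
theorem uN_15267 : Upto T.chkName 15267 := upto_add uN_14594 rfl cN_14594
theorem uN_15955 : Upto T.chkName 15955 := upto_add uN_15267 rfl cN_15267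
theorem uN_16630 : Upto T.chkName 16630 := upto_add uN_15955 rfl cN_15955
theorem uN_17306 : Upto T.chkName 17306 := upto_add uN_16630 rfl cN_16630
theorem uN_17975 : Upto T.chkName 17975 := upto_add uN_17306 rfl cN_17306
theorem uN_18650 : Upto T.chkName 18650 := upto_add uN_17975 rfl cN_17975
theorem uN_19318 : Upto T.chkName 19318 := upto_add uN_18650 rfl cN_18650
theorem uN_19983 : Upto T.chkName 19983 := upto_add uN_19318 rfl cN_19318
theorem uN_20653 : Upto T.chkName 20653 := upto_add uN_19983 rfl cN_19983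
theorem uN_21307 : Upto T.chkName 21307 := upto_add uN_20653 rfl cN_20653
theorem uN_21967 : Upto T.chkName 21967 := upto_add uN_21307 rfl cN_21307
theorem uN_22632 : Upto T.chkName 22632 := upto_add uN_21967 rfl cN_21967
theorem uN_23351 : Upto T.chkName 23351 := upto_add uN_22632 rfl cN_22632
theorem uN_24134 : Upto T.chkName 24134 := upto_add uN_23351 rfl cN_23351
theorem uN_24943 : Upto T.chkName 24943 := upto_add uN_24134 rfl cN_24134
theorem uN_25775 : Upto T.chkName 25775 := upto_add uN_24943 rfl cN_24943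
theorem uN_26580 : Upto T.chkName 26580 := upto_add uN_25775 rfl cN_25775
theorem uN_27419 : Upto T.chkName 27419 := upto_add uN_26580 rfl cN_26580
theorem uN_27917 : Upto T.chkName 27917 := upto_add uN_27419 rfl cN_27419
theorem uV_535 : Upto T.chkV 535 := upto_add (upto_zero T.chkV) rfl cV_0
theorem uV_1070 : Upto T.chkV 1070 := upto_add uV_535 rfl cV_535
theorem uV_1605 : Upto T.chkV 1605 := upto_add uV_1070 rfl cV_1070
theorem uV_2140 : Upto T.chkV 2140 := upto_add uV_1605 rfl cV_1605
theorem uV_2675 : Upto T.chkV 2675 := upto_add uV_2140 rfl cV_2140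
theorem uV_3210 : Upto T.chkV 3210 := upto_add uV_2675 rfl cV_2675
theorem uV_3745 : Upto T.chkV 3745 := upto_add uV_3210 rfl cV_3210
theorem uV_4280 : Upto T.chkV 4280 := upto_add uV_3745 rfl cV_3745
theorem uV_4815 : Upto T.chkV 4815 := upto_add uV_4280 rfl cV_4280
theorem uV_5350 : Upto T.chkV 5350 := upto_add uV_4815 rfl cV_4815
theorem uV_5885 : Upto T.chkV 5885 := upto_add uV_5350 rfl cV_5350
theorem uV_6420 : Upto T.chkV 6420 := upto_add uV_5885 rfl cV_5885
theorem uV_6955 : Upto T.chkV 6955 := upto_add uV_6420 rfl cV_6420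
theorem uV_7490 : Upto T.chkV 7490 := upto_add uV_6955 rfl cV_6955
theorem uV_8025 : Upto T.chkV 8025 := upto_add uV_7490 rfl cV_7490
theorem uV_8560 : Upto T.chkV 8560 := upto_add uV_8025 rfl cV_8025
theorem uV_9095 : Upto T.chkV 9095 := upto_add uV_8560 rfl cV_8560
theorem uV_9630 : Upto T.chkV 9630 := upto_add uV_9095 rfl cV_9095
theorem uV_10165 : Upto T.chkV 10165 := upto_add uV_9630 rfl cV_9630
theorem uV_10700 : Upto T.chkV 10700 := upto_add uV_10165 rfl cV_10165
theorem uV_11235 : Upto T.chkV 11235 := upto_add uV_10700 rfl cV_10700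
theorem uV_11770 : Upto T.chkV 11770 := upto_add uV_11235 rfl cV_11235
theorem uV_12305 : Upto T.chkV 12305 := upto_add uV_11770 rfl cV_11770
theorem uV_12840 : Upto T.chkV 12840 := upto_add uV_12305 rfl cV_12305
theorem uV_13375 : Upto T.chkV 13375 := upto_add uV_12840 rfl cV_12840
theorem uV_13910 : Upto T.chkV 13910 := upto_add uV_13375 rfl cV_13375
theorem uV_14445 : Upto T.chkV 14445 := upto_add uV_13910 rfl cV_13910
theorem uV_14980 : Upto T.chkV 14980 := upto_add uV_14445 rfl cV_14445
theorem uV_15515 : Upto T.chkV 15515 := upto_add uV_14980 rfl cV_14980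
theorem uV_16050 : Upto T.chkV 16050 := upto_add uV_15515 rfl cV_15515
theorem uV_16585 : Upto T.chkV 16585 := upto_add uV_16050 rfl cV_16050
theorem uV_17120 : Upto T.chkV 17120 := upto_add uV_16585 rfl cV_16585
theorem uV_17655 : Upto T.chkV 17655 := upto_add uV_17120 rfl cV_17120
theorem uV_18190 : Upto T.chkV 18190 := upto_add uV_17655 rfl cV_17655
theorem uV_18725 : Upto T.chkV 18725 := upto_add uV_18190 rfl cV_18190
theorem uV_19260 : Upto T.chkV 19260 := upto_add uV_18725 rfl cV_18725
theorem uV_19795 : Upto T.chkV 19795 := upto_add uV_19260 rfl cV_19260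
theorem uV_20330 : Upto T.chkV 20330 := upto_add uV_19795 rfl cV_19795
theorem uV_20865 : Upto T.chkV 20865 := upto_add uV_20330 rfl cV_20330
theorem uV_21400 : Upto T.chkV 21400 := upto_add uV_20865 rfl cV_20865
theorem uV_21935 : Upto T.chkV 21935 := upto_add uV_21400 rfl cV_21400
theorem uV_22470 : Upto T.chkV 22470 := upto_add uV_21935 rfl cV_21935
theorem uV_22880 : Upto T.chkV 22880 := upto_add uV_22470 rfl cV_22470

/-- The certificate is valid. -/
theorem cert : T.Cert where
  h0 := by decide +kernel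
  hrx := by decide +kernel
  hs0 := by decide +kernel
  hname := uN_27917
  hV := uV_22880

theorem orep_0 : T.orep 0 < T.N ∧ T.ol (T.orep 0) = 0 := by decide +kernel
theorem cnt_0 : countLt (fun v => Nat.beq (T.ol v) 0) T.N = 1 := by decide +kernel
theorem orep_1 : T.orep 1 < T.N ∧ T.ol (T.orep 1) = 1 := by decide +kernel
theorem cnt_1 : countLt (fun v => Nat.beq (T.ol v) 1) T.N = 486 := by decide +kernel
theorem orep_2 : T.orep 2 < T.N ∧ T.ol (T.orep 2) = 2 := by decide +kernel
theorem cnt_2 : countLt (fun v => Nat.beq (T.ol v) 2) T.N = 8505 := by decide +kernel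
theorem orep_3 : T.orep 3 < T.N ∧ T.ol (T.orep 3) = 3 := by decide +kernel
theorem cnt_3 : countLt (fun v => Nat.beq (T.ol v) 3) T.N = 13608 := by decide +kernel
theorem orep_4 : T.orep 4 < T.N ∧ T.ol (T.orep 4) = 4 := by decide +kernel
theorem cnt_4 : countLt (fun v => Nat.beq (T.ol v) 4) T.N = 280 := by decide +kernel

end Cfsg.Agent.Lib.Helper56.Suz22880
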